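import Mathlib
import Cfsg.Agent.Solv.MinNormal

/-! Groups in which the centralizers of elements are TI: general facts. -/

set_option autoImplicit false
set_option linter.unusedSectionVars false

namespace Cfsg.Agent.JX

open Subgroup

variable {G : Type*} [Group G]

/-- all element centralizers are TI (raw form) -/
def TIC (G : Type*) [Group G] : Prop :=
  ∀ x g y : G, y ≠ 1 → x * y = y * x → x * (g * y * g⁻¹) = (g * y * g⁻¹) * x →
    g ∈ Subgroup.normalizer (Subgroup.centralizer ({x} : Set G) : Set G)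

theorem mem_cent {x y : G} : y ∈ centralizer ({x} : Set G) ↔ x * y = y * x := by
  rw [mem_centralizer_iff]
  constructor
  · intro h; exact h x rfl
  · rintro h _ rfl; exact h

/-- a finite group in which every element commutes with its conjugates is nilpotent -/
theorem nilpotent_of_comm_conj {K : Type*} [Group K] [Finite K]
    (h : ∀ x g : K, x * (g * x * g⁻¹) = (g * x * g⁻¹) * x) : Group.IsNilpotent K := by
  apply ((Group.isNilpotent_of_finite_tfae (G := K)).out 0 3).2
  intro p hp P
  have hcomm : ∀ x : K, ∀ a ∈ Group.conjugatesOfSet ({x} : Set K), ∀ b ∈ Group.conjugatesOfSet ({x} : Set K),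
      a * b = b * a := by
    intro x a ha b hb
    rw [Group.mem_conjugatesOfSet_iff] at ha hb
    obtain ⟨x1, hx1, ha⟩ := ha
    obtain ⟨x2, hx2, hb⟩ := hb
    rw [Set.mem_singleton_iff] at hx1 hx2
    rw [hx1] at ha
    rw [hx2] at hb
    obtain ⟨g, hg⟩ := isConj_iff.1 ha
    obtain ⟨k, hk⟩ := isConj_iff.1 hb
    subst hg hk
    have h1 := h (g * x * g⁻¹) (k * g⁻¹)
    have e : k * g⁻¹ * (g * x * g⁻¹) * (k * g⁻¹)⁻¹ = k * x * k⁻¹ := by group
    rwa [e] at h1
  have hN : ∀ x ∈ (P : Subgroup K), IsPGroup p (normalClosure ({x} : Set K)) := by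
    intro x hx
    obtain ⟨k, hk⟩ := P.isPGroup' ⟨x, hx⟩
    have hk' : x ^ p ^ k = 1 := congrArg Subtype.val hk
    have hc : ∀ a ∈ normalClosure ({x} : Set K), ∀ b ∈ normalClosure ({x} : Set K), a * b = b * a := by
      have := isMulCommutative_closure (k := Group.conjugatesOfSet ({x} : Set K)) (hcomm x)
      intro a ha b hb
      exact congrArg Subtype.val (this.is_comm.comm ⟨a, ha⟩ ⟨b, hb⟩)
    have key : ∀ a ∈ normalClosure ({x} : Set K), a ^ p ^ k = 1 := by
      intro a ha
      refine closure_induction (p := fun a _ => a ^ p ^ k = 1) ?_ (one_pow _) ?_ ?_ ha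
      · intro a ha2
        rw [Group.mem_conjugatesOfSet_iff] at ha2
        obtain ⟨x1, hx1, ha2⟩ := ha2
        rw [Set.mem_singleton_iff] at hx1
        rw [hx1] at ha2
        obtain ⟨g, hg⟩ := isConj_iff.1 ha2
        rw [← hg, conj_pow, hk']; group
      · intro a b ha hb h1 h2
        have : Commute a b := hc a ha b hb
        rw [this.mul_pow, h1, h2, one_mul]
      · intro a _ h1
        rw [inv_pow, h1, inv_one]
    intro a
    exact ⟨k, Subtype.ext (key a a.2)⟩
  constructor
  intro x hx g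
  have h1 := (hN x hx).to_sup_of_normal_left P.isPGroup'
  have h2 := P.is_maximal' h1 le_sup_right
  rw [← h2]
  apply mem_sup_left
  exact (normalClosure_normal (s := ({x} : Set K))).conj_mem x (subset_normalClosure (Set.mem_singleton x)) g

/-- elements of coprime orders in a nilpotent group commute -/
theorem commute_of_coprime {G : Type*} [Group G] [Finite G] [Group.IsNilpotent G] {x y : G}
    (h : Nat.Coprime (orderOf x) (orderOf y)) : Commute x y := by
  obtain ⟨e⟩ := (Group.isNilpotent_of_finite_tfae (G := G)).out 0 4 |>.1 ‹_›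
  suffices H : Commute (e.symm x) (e.symm y) by
    have := H.map e
    simpa using this
  have hx : orderOf (e.symm x) = orderOf x := MulEquiv.orderOf_eq e.symm x
  have hy : orderOf (e.symm y) = orderOf y := MulEquiv.orderOf_eq e.symm y
  rw [← hx, ← hy] at h
  generalize e.symm x = a at h
  generalize e.symm y = b at h
  apply funext
  intro p
  apply funext
  intro P
  have : Fact (Nat.Prime (p : ℕ)) := Fact.mk <| Nat.prime_of_mem_primeFactors p.2
  change (a p P) * (b p P) = (b p P) * (a p P)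
  obtain ⟨k, hk⟩ := (IsPGroup.iff_orderOf.1 P.isPGroup') (a p P)
  obtain ⟨l, hl⟩ := (IsPGroup.iff_orderOf.1 P.isPGroup') (b p P)
  have h1 : orderOf (a p P) ∣ orderOf a := by
    apply orderOf_dvd_of_pow_eq_one
    have := congrFun (congrFun (pow_orderOf_eq_one a) p) P
    exact this
  have h2 : orderOf (b p P) ∣ orderOf b := by
    apply orderOf_dvd_of_pow_eq_one
    have := congrFun (congrFun (pow_orderOf_eq_one b) p) P
    exact this
  have h3 : Nat.Coprime ((p : ℕ) ^ k) ((p : ℕ) ^ l) := by
    rw [← hk, ← hl]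
    exact Nat.Coprime.of_dvd h1 h2 h
  rcases Nat.eq_zero_or_pos k with rfl | hk0
  · rw [pow_zero, orderOf_eq_one_iff] at hk
    rw [hk, one_mul, mul_one]
  · rcases Nat.eq_zero_or_pos l with rfl | hl0
    · rw [pow_zero, orderOf_eq_one_iff] at hl
      rw [hl, one_mul, mul_one]
    · exfalso
      rw [Nat.coprime_pow_left_iff hk0, Nat.coprime_pow_right_iff hl0, Nat.coprime_self] at h3
      exact (Nat.Prime.one_lt (Fact.out : Nat.Prime (p : ℕ))).ne' h3

namespace TIC

variable (h : TIC G)
include h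

theorem norm {x y g : G} (hx : x ≠ 1) (hxy : y * x = x * y) (hg : g * x = x * g) :
    g ∈ normalizer (centralizer ({y} : Set G) : Set G) := by
  have e : g * x * g⁻¹ = x := by rw [hg]; group
  exact h y g x hx hxy (by rw [e]; exact hxy)

/-- the conjugation formula -/
theorem comm_conj {x : G} (hx : x ≠ 1) {y g : G} (hy : y * x = x * y) (hg : g * x = x * g) :
    y * (g * y * g⁻¹) = (g * y * g⁻¹) * y := by
  have h1 := h.norm hx hy hg
  rw [mem_normalizer_iff] at h1
  exact mem_cent.1 ((h1 y).1 (mem_cent.2 rfl))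

theorem nilpotent [Finite G] {x : G} (hx : x ≠ 1) {H : Subgroup G} (hH : ∀ y ∈ H, y * x = x * y) :
    Group.IsNilpotent H := by
  apply nilpotent_of_comm_conj
  intro y g
  apply Subtype.ext
  exact h.comm_conj hx (hH y y.2) (hH g g.2)

/-- if the centre is not trivial -/
theorem nilpotent_of_center [Finite G] {x : G} (hx : x ≠ 1) (hc : ∀ y, y * x = x * y) :
    Group.IsNilpotent G :=
  nilpotent_of_comm_conj fun _ _ => h.comm_conj hx (hc _) (hc _)

theorem exists_max [Finite G] {z : G} (hz : z ≠ 1) : ∃ w : G, w ≠ 1 ∧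
    centralizer ({z} : Set G) ≤ centralizer ({w} : Set G) ∧
    ∀ x : G, x ≠ 1 → x * w = w * x → centralizer ({x} : Set G) ≤ centralizer ({w} : Set G) := by
  classical
  obtain ⟨w, ⟨hw, hzw⟩, hmax⟩ := Set.exists_max_image
    {w : G | w ≠ 1 ∧ centralizer ({z} : Set G) ≤ centralizer ({w} : Set G)}
    (fun w => Nat.card (centralizer ({w} : Set G))) (Set.toFinite _) ⟨z, hz, le_rfl⟩
  refine ⟨w, hw, hzw, ?_⟩
  intro x hx hxw
  set A := centralizer ({x} : Set G) with hA
  set B := centralizer ({w} : Set G) with hB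
  have hBnil : Group.IsNilpotent B := h.nilpotent hw (fun y hy => (mem_cent.1 hy).symm)
  have hBA : ∀ b ∈ B, b ∈ normalizer (A : Set G) := fun b hb =>
    h.norm hw hxw (mem_cent.1 hb).symm
  let N : Subgroup B := (A ⊓ centralizer (A : Set G)).subgroupOf B
  have hNn : N.Normal := by
    constructor
    intro n hn b
    rw [mem_subgroupOf, mem_inf] at hn ⊢
    have hb := mem_normalizer_iff.1 (hBA b b.2)
    refine ⟨(hb _).1 hn.1, ?_⟩
    rw [mem_centralizer_iff]
    intro a ha
    have h1 : (b : G)⁻¹ * a * b ∈ A := by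
      have h2 := (hb ((b : G)⁻¹ * a * b)).2
      apply h2
      have e : (b : G) * ((b : G)⁻¹ * a * b) * (b : G)⁻¹ = a := by group
      rw [e]; exact ha
    have h2 := mem_centralizer_iff.1 hn.2 _ h1
    have e1 : a * ((b : G) * (n : G) * (b : G)⁻¹) = (b : G) * (((b : G)⁻¹ * a * b) * (n : G)) * (b : G)⁻¹ := by group
    have e2 : ((b : G) * (n : G) * (b : G)⁻¹) * a = (b : G) * ((n : G) * ((b : G)⁻¹ * a * b)) * (b : G)⁻¹ := by group
    show a * ((b : G) * (n : G) * (b : G)⁻¹) = ((b : G) * (n : G) * (b : G)⁻¹) * a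
    rw [e1, e2, h2]
  have hxB : x ∈ B := mem_cent.2 hxw.symm
  have hxN : (⟨x, hxB⟩ : B) ∈ N := by
    rw [mem_subgroupOf, mem_inf]
    refine ⟨mem_cent.2 rfl, ?_⟩
    rw [mem_centralizer_iff]
    intro a ha
    exact (mem_cent.1 ha).symm
  have hN1 : N ≠ ⊥ := by
    intro e
    rw [e, mem_bot] at hxN
    exact hx (congrArg Subtype.val hxN)
  have h1 := Cfsg.Agent.Solv.inf_center_ne_bot_of_nilpotent N hN1
  obtain ⟨⟨v, hv⟩, hv1⟩ := Subgroup.ne_bot_iff_exists_ne_one.mp h1
  obtain ⟨hvN, hvc⟩ := mem_inf.1 hv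
  have hv1' : (v : G) ≠ 1 := fun e => hv1 (Subtype.ext (Subtype.ext e))
  rw [mem_subgroupOf, mem_inf] at hvN
  have hAv : A ≤ centralizer ({(v : G)} : Set G) := by
    intro a ha
    exact mem_cent.2 (mem_centralizer_iff.1 hvN.2 a ha).symm
  have hBv : B ≤ centralizer ({(v : G)} : Set G) := by
    intro b hb
    have := mem_center_iff.1 hvc ⟨b, hb⟩
    exact mem_cent.2 (congrArg Subtype.val this).symm
  have h3 := hmax v ⟨hv1', hzw.trans hBv⟩
  have h4 : B = centralizer ({(v : G)} : Set G) := Subgroup.eq_of_le_of_card_ge hBv h3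
  rw [h4]
  exact hAv

end TIC

end Cfsg.Agent.JX
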