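import Mathlib
import Cfsg.Prelude.Def_Solvable
import Cfsg.Agent.JX.Basic
import Cfsg.Agent.Frob.Center
import Cfsg.Agent.Frob.Nested
import Cfsg.Agent.MaxClass.UniqueOrderP

/-! Groups in which the centralizers of elements are TI: the Frobenius case. -/

set_option autoImplicit false
set_option linter.unusedSectionVars false

namespace Cfsg.Agent.JX

open Subgroup Cfsg

universe u

section Comp

variable {K : Type u} [Group K] [Finite K]

theorem sylow_cases (hK : Frob.HasFPFModule K) {p : ℕ} [Fact p.Prime] (P : Sylow p K) :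
    IsCyclic (P : Subgroup K) ∨ (p = 2 ∧ ∃ n : ℕ, Nonempty ((P : Subgroup K) ≃* QuaternionGroup (2 ^ n))) :=
  MaxClass.cyclic_or_quaternion P.isPGroup'
    ((hK.subgroup (P : Subgroup K)).unique_subgroup_of_isPGroup P.isPGroup')

theorem isZGroup_of_odd (hK : Frob.HasFPFModule K) (h2 : ¬ 2 ∣ Nat.card K) : IsZGroup K := by
  constructor
  intro p hp P
  haveI := Fact.mk hp
  rcases sylow_cases hK P with h | ⟨-, n, ⟨e⟩⟩
  · exact h
  · exfalso
    apply h2
    have h1 := Nat.card_congr e.toEquiv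
    have h3 : Nat.card (QuaternionGroup (2 ^ n)) = 4 * 2 ^ n := by
      rw [Nat.card_eq_fintype_card, QuaternionGroup.card]
    rw [h3] at h1
    exact (Dvd.intro (2 * 2 ^ n) (by rw [h1]; ring)).trans (Subgroup.card_subgroup_dvd_card (P : Subgroup K))

/-- the quaternion group in which elements commute with conjugates -/
theorem quat_small {n : ℕ} (hn : n ≠ 0) (hc : ∀ x g : QuaternionGroup n, x * (g * x * g⁻¹) = (g * x * g⁻¹) * x) :
    n ∣ 2 := by
  have h1 := hc (QuaternionGroup.xa 0) (QuaternionGroup.a 1)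
  have e : (QuaternionGroup.a 1 : QuaternionGroup n)⁻¹ = QuaternionGroup.a (-1) := rfl
  rw [e] at h1
  simp only [QuaternionGroup.a_mul_xa, QuaternionGroup.xa_mul_a, QuaternionGroup.xa_mul_xa] at h1
  have h2 := QuaternionGroup.a.inj h1
  have h3 : ((4 : ℕ) : ZMod (2 * n)) = 0 := by
    push_cast
    linear_combination -h2
  rw [ZMod.natCast_eq_zero_iff] at h3
  have : 2 * n ∣ 2 * 2 := h3
  exact Nat.dvd_of_mul_dvd_mul_left (by norm_num) this

theorem exists_prod (hnil : Group.IsNilpotent K) (P : Sylow 2 K) :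
    ∃ (H : Subgroup K), ¬ 2 ∣ Nat.card H ∧ Nonempty (K ≃* (↥(P : Subgroup K)) × (↥H)) := by
  have hPn : (P : Subgroup K).Normal := by
    have h := (Group.isNilpotent_of_finite_tfae (G := K)).out 0 3
    exact (h.mp inferInstance) 2 ⟨Nat.prime_two⟩ P
  have hcop : Nat.Coprime (Nat.card (P : Subgroup K)) (P : Subgroup K).index := P.card_coprime_index
  obtain ⟨H, hH⟩ := Subgroup.exists_right_complement'_of_coprime hcop
  have hHi : Nat.card H = (P : Subgroup K).index := by
    rw [hH.symm.index_eq_card]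
  have hHp : ¬ 2 ∣ Nat.card H := by
    rw [hHi]
    haveI := Fact.mk Nat.prime_two
    exact P.not_dvd_index
  refine ⟨H, hHp, ?_⟩
  have hcomm : ∀ (a : (P : Subgroup K)) (b : H),
      Commute ((P : Subgroup K).subtype a) (H.subtype b) := by
    intro a b
    apply commute_of_coprime
    have h1 : orderOf ((P : Subgroup K).subtype a) ∣ Nat.card (P : Subgroup K) := by
      rw [Subgroup.coe_subtype, Subgroup.orderOf_coe]
      exact orderOf_dvd_natCard a
    have h2 : orderOf (H.subtype b) ∣ Nat.card H := by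
      rw [Subgroup.coe_subtype, Subgroup.orderOf_coe]
      exact orderOf_dvd_natCard b
    rw [← hHi] at hcop
    exact Nat.Coprime.coprime_dvd_left h1 (Nat.Coprime.coprime_dvd_right h2 hcop)
  have hbij : Function.Bijective
      (MonoidHom.noncommCoprod ((P : Subgroup K).subtype) (H.subtype) hcomm) := by
    rw [Subgroup.isComplement'_def, Subgroup.isComplement_iff_bijective] at hH
    exact hH
  exact ⟨(MulEquiv.ofBijective _ hbij).symm⟩

theorem comp_structure (hK : Frob.HasFPFModule K) (hnil : Group.IsNilpotent K)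
    (hc : ∀ x g : K, x * (g * x * g⁻¹) = (g * x * g⁻¹) * x) :
    IsCyclic K ∨ ∃ m : ℕ, Odd m ∧ Nonempty (K ≃* Multiplicative (ZMod m) × QuaternionGroup 2) := by
  haveI := Fact.mk Nat.prime_two
  obtain ⟨P⟩ : Nonempty (Sylow 2 K) := inferInstance
  by_cases hcyc : IsCyclic (P : Subgroup K)
  · left
    have : IsZGroup K := by
      constructor
      intro p hp Q
      haveI := Fact.mk hp
      rcases sylow_cases hK Q with h | ⟨rfl, -⟩
      · exact h
      · exact isCyclic_of_surjective (P.equiv Q) (P.equiv Q).surjective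
    infer_instance
  · right
    obtain ⟨n, ⟨e⟩⟩ := (sylow_cases hK P).resolve_left hcyc |>.2
    have h1 : 2 ^ n ∣ 2 := by
      apply quat_small (by positivity)
      intro x g
      have h2 := hc (e.symm x : (P : Subgroup K)) (e.symm g : (P : Subgroup K))
      have h3 : e.symm x * (e.symm g * e.symm x * (e.symm g)⁻¹) =
          (e.symm g * e.symm x * (e.symm g)⁻¹) * e.symm x := Subtype.ext h2
      have h4 := congrArg e h3
      simpa using h4
    have hn : n = 1 := by
      have h2 := (Nat.dvd_prime Nat.prime_two).1 h1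
      rcases h2 with h2 | h2
      · exfalso
        apply hcyc
        have : n = 0 := by
          by_contra h0
          have := Nat.one_lt_two_pow h0
          omega
        subst this
        have := QuaternionGroup.quaternionGroup_one_isCyclic
        rw [pow_zero] at e
        exact isCyclic_of_surjective e.symm e.symm.surjective
      · have h3 : (2 : ℕ) ^ n = 2 ^ 1 := by rw [h2, pow_one]
        exact Nat.pow_right_injective le_rfl h3
    subst hn
    rw [pow_one] at e
    obtain ⟨H, hH, ⟨f⟩⟩ := exists_prod hnil P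
    have hz := isZGroup_of_odd (hK.subgroup H) hH
    have hHc : IsCyclic H := inferInstance
    refine ⟨Nat.card H, ?_, ⟨f.trans ((MulEquiv.prodComm).trans (MulEquiv.prodCongr (zmodCyclicMulEquiv hHc).symm e))⟩⟩
    rw [← Nat.not_even_iff_odd, even_iff_two_dvd]
    exact hH

end Comp

variable {G : Type u} [Group G] [Finite G]

theorem TIC.frobenius (h : TIC G) (hn : ¬ Group.IsNilpotent G) {A : Subgroup G} (hAn : A.Normal)
    (hA : A ≠ ⊥) (hAc : ∀ x ∈ A, ∀ y ∈ A, x * y = y * x) :
    ∃ K : Subgroup G, IsFrobeniusComplement K ∧ (IsCyclic K ∨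
      ∃ m : ℕ, Odd m ∧ Nonempty (K ≃* Multiplicative (ZMod m) × QuaternionGroup 2)) := by
  obtain ⟨⟨z, hz⟩, hz1⟩ := Subgroup.ne_bot_iff_exists_ne_one.mp hA
  have hz1 : z ≠ 1 := fun e => hz1 (Subtype.ext e)
  obtain ⟨w, hw1, hzw, hmax⟩ := h.exists_max hz1
  set M := centralizer ({w} : Set G) with hM
  have hAM : A ≤ M := fun y hy => hzw (mem_cent.2 (hAc z hz y hy))
  have hMn : M.Normal := by
    rw [← normalizer_eq_top_iff, eq_top_iff]
    intro g _
    exact h w g z hz1 (mem_cent.1 (hAM hz)) (mem_cent.1 (hAM (hAn.conj_mem z hz g)))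
  have hMnil : Group.IsNilpotent M := h.nilpotent hw1 (fun y hy => (mem_cent.1 hy).symm)
  have hMt : M ≠ ⊤ := by
    intro e
    apply hn
    exact h.nilpotent_of_center hw1 (fun y => (mem_cent.1 (e ▸ mem_top y : y ∈ M)).symm)
  have hwM : w ∈ M := mem_cent.2 rfl
  have hMb : M ≠ ⊥ := by
    intro e
    rw [e, mem_bot] at hwM
    exact hw1 hwM
  have hcent : ∀ x ∈ M, x ≠ 1 → ∀ y, x * y = y * x → y ∈ M := by
    intro x hx hx1 y hy
    exact hmax x hx1 (mem_cent.1 hx).symm (mem_cent.2 hy)
  have hcop : (Nat.card M).Coprime M.index := by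
    rw [Nat.coprime_iff_gcd_eq_one]
    by_contra hg
    obtain ⟨p, hp, hpg⟩ := Nat.exists_prime_and_dvd hg
    have hp1 : p ∣ Nat.card M := hpg.trans (Nat.gcd_dvd_left _ _)
    have hp2 : p ∣ M.index := hpg.trans (Nat.gcd_dvd_right _ _)
    haveI := Fact.mk hp
    obtain ⟨P⟩ : Nonempty (Sylow p G) := inferInstance
    -- an element of order `p` in `M`
    obtain ⟨x, hx⟩ := exists_prime_orderOf_dvd_card' p hp1
    have hxp : IsPGroup p (zpowers (x : G)) := by
      apply IsPGroup.of_card (n := 1)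
      rw [Nat.card_zpowers, Subgroup.orderOf_coe, hx, pow_one]
    obtain ⟨Q, hQ⟩ := hxp.exists_le_sylow
    obtain ⟨g, hg⟩ := MulAction.exists_smul_eq G Q P
    have hx2 : g * x * g⁻¹ ∈ (P : Subgroup G) := by
      rw [← hg]
      exact Subgroup.smul_mem_pointwise_smul _ (MulAut.conj g) _ (hQ (mem_zpowers _))
    have hx3 : g * x * g⁻¹ ∈ M := hMn.conj_mem x x.2 g
    have hx4 : g * x * g⁻¹ ≠ 1 := by
      intro e
      have : (x : G) = 1 := by
        have e2 : (x : G) = g⁻¹ * (g * x * g⁻¹) * g := by group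
        rw [e2, e]; group
      rw [← Subgroup.orderOf_coe, this, orderOf_one] at hx
      exact hp.one_lt.ne hx
    let N : Subgroup (P : Subgroup G) := M.subgroupOf P
    have hN1 : N ≠ ⊥ := by
      intro e
      have : (⟨_, hx2⟩ : (P : Subgroup G)) ∈ N := mem_subgroupOf.2 hx3
      rw [e, mem_bot] at this
      exact hx4 (congrArg Subtype.val this)
    have hPnil : Group.IsNilpotent (P : Subgroup G) := P.isPGroup'.isNilpotent
    have h1 := Cfsg.Agent.Solv.inf_center_ne_bot_of_nilpotent N hN1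
    obtain ⟨⟨v, hv⟩, hv1⟩ := Subgroup.ne_bot_iff_exists_ne_one.mp h1
    obtain ⟨hvN, hvc⟩ := mem_inf.1 hv
    have hv1' : (v : G) ≠ 1 := fun e => hv1 (Subtype.ext (Subtype.ext e))
    rw [mem_subgroupOf] at hvN
    have hPM : (P : Subgroup G) ≤ M := by
      intro y hy
      apply hcent v hvN hv1'
      exact (congrArg Subtype.val (mem_center_iff.1 hvc ⟨y, hy⟩)).symm
    have h3 : (P : Subgroup G).index = M.index * (P : Subgroup G).relIndex M := by
      rw [mul_comm, Subgroup.relIndex_mul_index hPM]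
    exact P.not_dvd_index (h3 ▸ hp2.mul_right _)
  obtain ⟨K, hK⟩ := Subgroup.exists_right_complement'_of_coprime hcop
  have hKb : K ≠ ⊥ := by
    rintro rfl
    rw [isComplement'_bot_right] at hK
    exact hMt hK
  have hfpf : ∀ k ∈ K, k ≠ 1 → M ⊓ Subgroup.centralizer {k} = ⊥ := by
    intro k hk hk1
    rw [eq_bot_iff]
    rintro y ⟨hy1, hy2⟩
    by_contra hy3
    have h1 : k ∈ M := hcent y hy1 hy3 k (mem_cent.1 hy2).symm
    exact hk1 (Subgroup.disjoint_def.mp hK.disjoint h1 hk)
  have hF := (Frob.isFrobeniusComplement_iff_fpf hK hMb hKb).2 hfpf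
  refine ⟨K, hF, ?_⟩
  have hmod := Frob.IsFrobeniusComplement.hasFPFModule hF
  haveI : Nontrivial K := (nontrivial_iff_ne_bot K).2 hKb
  have hcb : center K ≠ ⊥ := by
    by_cases h2 : 2 ∣ Nat.card K
    · exact hmod.center_ne_bot_of_even h2
    · haveI := isZGroup_of_odd hmod h2
      exact hmod.center_ne_bot_of_isZGroup
  obtain ⟨⟨k, hk⟩, hk1⟩ := Subgroup.ne_bot_iff_exists_ne_one.mp hcb
  have hk1' : (k : G) ≠ 1 := fun e => hk1 (Subtype.ext (Subtype.ext e))
  have hkc : ∀ y ∈ K, y * (k : G) = k * y := fun y hy =>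
    congrArg Subtype.val (mem_center_iff.1 hk ⟨y, hy⟩)
  apply comp_structure hmod (h.nilpotent hk1' hkc)
  intro x g
  exact Subtype.ext (h.comm_conj hk1' (hkc x x.2) (hkc g g.2))

end Cfsg.Agent.JX
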