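import Mathlib
import Cfsg.Prelude.Def_Solvable
import Cfsg.Agent.JX.Basic
import Cfsg.Agent.Frob.Kernel
import Cfsg.Agent.Frob.Aut
import Cfsg.Agent.H30.BendF

/-! Groups in which the centralizers of elements are TI: the strongly embedded case. -/

set_option autoImplicit false
set_option linter.unusedSectionVars false
set_option linter.style.haveILetI false

namespace Cfsg.Agent.JX

open Subgroup Cfsg

universe u

/-- a solvable normal subgroup gives an abelian normal subgroup -/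
theorem eq_bot_of_solvable {G : Type u} [Group G] [Finite G]
    (noab : ∀ A : Subgroup G, A.Normal → (∀ x ∈ A, ∀ y ∈ A, x * y = y * x) → A = ⊥)
    (N : Subgroup G) (hN : N.Normal) (hs : Group.IsSolvable N) : N = ⊥ := by
  by_contra hne
  haveI : Nontrivial N := (nontrivial_iff_ne_bot N).2 hne
  obtain ⟨r, V, -, hV, hVc, -, hV1, -⟩ := Frob.exists_characteristic_abelian (G := N) hs
  have h1 : (V.map N.subtype).Normal := inferInstance
  have h2 := noab _ h1 (by
    rintro _ ⟨x, hx, rfl⟩ _ ⟨y, hy, rfl⟩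
    have := congrArg Subtype.val (congrArg Subtype.val (hVc.is_comm.comm ⟨x, hx⟩ ⟨y, hy⟩))
    exact this)
  rw [map_eq_bot_iff_of_injective _ N.subtype_injective] at h2
  exact hV1 h2

/-- the nonsolvable case -/
structure Hyp (G : Type u) [Group G] (P : Sylow 2 G) (w : G) : Prop where
  tic : TIC G
  noab : ∀ A : Subgroup G, A.Normal → (∀ x ∈ A, ∀ y ∈ A, x * y = y * x) → A = ⊥
  odd : ∀ N : Subgroup G, N.Normal → ¬ 2 ∣ Nat.card N → N = ⊥
  w1 : w ≠ 1
  le : (P : Subgroup G) ≤ centralizer ({w} : Set G)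
  mx : ∀ x : G, x ≠ 1 → x * w = w * x → centralizer ({x} : Set G) ≤ centralizer ({w} : Set G)
  ne : (P : Subgroup G) ≠ ⊥

namespace Hyp

variable {G : Type u} [Group G] [Finite G] {P : Sylow 2 G} {w : G} (h : Hyp G P w)
include h

/-- the maximal centralizer -/
def M (_ : Hyp G P w) : Subgroup G := centralizer ({w} : Set G)

/-- its normalizer -/
def H (_ : Hyp G P w) : Subgroup G := normalizer (centralizer ({w} : Set G) : Set G)

theorem mem_M {x : G} : x ∈ h.M ↔ w * x = x * w := mem_cent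

theorem M_le : h.M ≤ h.H := le_normalizer

theorem P_le_M : (P : Subgroup G) ≤ h.M := h.le

theorem P_le : (P : Subgroup G) ≤ h.H := h.P_le_M.trans h.M_le

theorem nil : Group.IsNilpotent h.M := h.tic.nilpotent h.w1 (fun _ hy => (mem_cent.1 hy).symm)

theorem cent {x : G} (hx : x ∈ h.M) (hx1 : x ≠ 1) {y : G} (hy : x * y = y * x) : y ∈ h.M :=
  h.mx x hx1 (h.mem_M.1 hx).symm (mem_cent.2 hy)

theorem H_conj {g x : G} (hg : g ∈ h.H) (hx : x ∈ h.M) : g * x * g⁻¹ ∈ h.M :=
  (mem_normalizer_iff.1 hg x).1 hx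

theorem ti {g x : G} (hx : x ∈ h.M) (hx1 : x ≠ 1) (hg : g * x * g⁻¹ ∈ h.M) : g ∈ h.H :=
  h.tic w g x hx1 (h.mem_M.1 hx) (h.mem_M.1 hg)

theorem mem_P_of_M {y : G} (hy : y ∈ h.M) {k : ℕ} (hk : y ^ 2 ^ k = 1) : y ∈ (P : Subgroup G) := by
  haveI := Fact.mk Nat.prime_two
  haveI := h.nil
  let P' : Sylow 2 h.M := P.subtype h.P_le_M
  have hPn : (P' : Subgroup h.M).Normal := by
    have h := (Group.isNilpotent_of_finite_tfae (G := h.M)).out 0 3
    exact (h.mp inferInstance) 2 ⟨Nat.prime_two⟩ P'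
  have h1 : IsPGroup 2 (zpowers (⟨y, hy⟩ : h.M)) := by
    rw [IsPGroup.iff_card]
    have h2 : orderOf (⟨y, hy⟩ : h.M) ∣ 2 ^ k := by
      apply orderOf_dvd_of_pow_eq_one
      exact Subtype.ext hk
    obtain ⟨j, -, hj⟩ := (Nat.dvd_prime_pow Nat.prime_two).1 h2
    exact ⟨j, by rw [Nat.card_zpowers, hj]⟩
  have h2 := h1.to_sup_of_normal_right P'.isPGroup'
  have h3 := P'.is_maximal' h2 le_sup_right
  have h4 : (⟨y, hy⟩ : h.M) ∈ (P' : Subgroup h.M) := by
    rw [← h3]
    exact mem_sup_left (mem_zpowers _)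
  exact h4

theorem relIndex_odd : ¬ 2 ∣ h.M.index := by
  haveI := Fact.mk Nat.prime_two
  intro h2
  apply P.not_dvd_index
  exact h2.trans (index_dvd_of_le h.P_le_M)

theorem mem_P {y : G} (hy : y ∈ h.H) {k : ℕ} (hk : y ^ 2 ^ k = 1) : y ∈ (P : Subgroup G) := by
  apply h.mem_P_of_M _ hk
  let M' : Subgroup h.H := h.M.subgroupOf h.H
  have hn : M'.Normal := by
    constructor
    intro x hx g
    exact h.H_conj g.2 hx
  have h1 : ¬ 2 ∣ M'.index := by
    intro h2
    apply h.relIndex_odd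
    exact h2.trans (relIndex_dvd_index_of_le h.M_le)
  have h2 : orderOf (QuotientGroup.mk ⟨y, hy⟩ : h.H ⧸ M') ∣ M'.index := orderOf_dvd_natCard _
  have h3 : orderOf (QuotientGroup.mk ⟨y, hy⟩ : h.H ⧸ M') ∣ 2 ^ k := by
    apply orderOf_dvd_of_pow_eq_one
    rw [← QuotientGroup.mk_pow]
    have : (⟨y, hy⟩ : h.H) ^ 2 ^ k = 1 := Subtype.ext hk
    rw [this]; rfl
  have h4 : Nat.Coprime (2 ^ k) M'.index :=
    Nat.Coprime.pow_left k ((Nat.Prime.coprime_iff_not_dvd Nat.prime_two).2 h1)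
  have h5 := Nat.eq_one_of_dvd_coprimes h4 h3 h2
  rw [orderOf_eq_one_iff, QuotientGroup.eq_one_iff] at h5
  exact h5

theorem P_conj {g x : G} (hg : g ∈ h.H) (hx : x ∈ (P : Subgroup G)) : g * x * g⁻¹ ∈ (P : Subgroup G) := by
  obtain ⟨k, hk⟩ := P.isPGroup' ⟨x, hx⟩
  have hk' : x ^ 2 ^ k = 1 := congrArg Subtype.val hk
  apply h.mem_P (h.H.mul_mem (h.H.mul_mem hg (h.P_le hx)) (h.H.inv_mem hg)) (k := k)
  rw [conj_pow, hk']; group

/-- a central involution of `P` -/
theorem exists_central : ∃ z ∈ (P : Subgroup G), orderOf z = 2 ∧ ∀ y ∈ (P : Subgroup G), y * z = z * y := by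
  haveI := Fact.mk Nat.prime_two
  haveI : Nontrivial (P : Subgroup G) := (nontrivial_iff_ne_bot _).2 h.ne
  have h1 := P.isPGroup'.center_nontrivial
  obtain ⟨n, hn, hn1⟩ := (P.isPGroup'.to_subgroup (center (P : Subgroup G))).nontrivial_iff_card.1 h1
  obtain ⟨z, hz⟩ := exists_prime_orderOf_dvd_card' (G := center (P : Subgroup G)) 2
    (by rw [hn1]; exact dvd_pow_self 2 (by omega))
  refine ⟨((z : (P : Subgroup G)) : G), (z : (P : Subgroup G)).2, by
    rw [Subgroup.orderOf_coe, Subgroup.orderOf_coe, hz], ?_⟩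
  intro y hy
  exact congrArg Subtype.val (mem_center_iff.1 z.2 ⟨y, hy⟩)

theorem H_ne_top : h.H ≠ ⊤ := by
  intro e
  obtain ⟨z, hz, hzo, -⟩ := h.exists_central
  have hz1 : z ≠ 1 := by
    rintro rfl
    rw [orderOf_one] at hzo
    omega
  let Z : Subgroup G := ((center (P : Subgroup G)).map (P : Subgroup G).subtype)
  haveI : (P : Subgroup G).Normal := ⟨fun x hx g => h.P_conj (e ▸ mem_top g) hx⟩
  have hZn : Z.Normal := inferInstance
  have h1 := h.noab Z hZn (by
    rintro _ ⟨x, hx, rfl⟩ _ ⟨y, hy, rfl⟩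
    exact (congrArg Subtype.val (mem_center_iff.1 hx y)).symm)
  rw [map_eq_bot_iff_of_injective _ (P : Subgroup G).subtype_injective] at h1
  haveI : Nontrivial (P : Subgroup G) := (nontrivial_iff_ne_bot _).2 h.ne
  haveI := Fact.mk Nat.prime_two
  have h2 := P.isPGroup'.center_nontrivial
  exact (nontrivial_iff_ne_bot _).1 h2 h1

theorem H_not_le : ¬ h.H ≤ h.M := by
  intro hle
  obtain ⟨z, hz, hzo, -⟩ := h.exists_central
  have hz1 : z ≠ 1 := by
    rintro rfl
    rw [orderOf_one] at hzo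
    omega
  have hF : IsFrobeniusComplement h.M := by
    rw [Frob.isFrobeniusComplement_iff]
    refine ⟨?_, ?_, ?_⟩
    · intro e
      have := h.P_le_M hz
      rw [e, mem_bot] at this
      exact hz1 this
    · intro e
      apply h.H_ne_top
      rw [eq_top_iff, ← e]
      exact h.M_le
    · intro g x hx hx1 hg
      exact hle (h.ti hx hx1 hg)
  obtain ⟨N, -, hN, hc⟩ := Frob.exists_normal_complement hF
  have h1 : Nat.card N = h.M.index := hc.index_eq_card.symm
  have h2 := h.odd N hN (by rw [h1]; exact h.relIndex_odd)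
  rw [h2, isComplement'_bot_left] at hc
  apply h.H_ne_top
  rw [eq_top_iff, ← hc]
  exact h.M_le

/-- the points -/
abbrev Om : Type u := G ⧸ h.H

theorem smul_mk {t g : G} : t • (QuotientGroup.mk g : h.Om) = QuotientGroup.mk g ↔ g⁻¹ * t * g ∈ h.H := by
  rw [MulAction.Quotient.smul_mk, eq_comm, QuotientGroup.eq, smul_eq_mul, ← mul_assoc]

/-- the base point -/
def pt : h.Om := QuotientGroup.mk 1

theorem smul_pt {t : G} : t • h.pt = h.pt ↔ t ∈ h.H := by
  have := h.smul_mk (t := t) (g := 1)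
  rw [inv_one, one_mul, mul_one] at this
  exact this

theorem bh : Cfsg.Agent.H30.Bend.BH G h.Om where
  trans := by
    intro a b
    exact MulAction.exists_smul_eq G a b
  inv := by
    intro t ht
    haveI := Fact.mk Nat.prime_two
    have htp : IsPGroup 2 (zpowers t) := by
      apply IsPGroup.of_card (n := 1)
      rw [Nat.card_zpowers, ht, pow_one]
    obtain ⟨Q, hQ⟩ := htp.exists_le_sylow
    obtain ⟨g, hg⟩ := MulAction.exists_smul_eq G P Q
    have h1 : t ∈ (g • P : Sylow 2 G) := by rw [hg]; exact hQ (mem_zpowers t)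
    have h2 : g⁻¹ * t * g ∈ (P : Subgroup G) := by
      rw [← SetLike.mem_coe, Sylow.coe_smul, Set.mem_smul_set_iff_inv_smul_mem] at h1
      have e : (MulAut.conj g)⁻¹ • t = g⁻¹ * t * g := by
        rw [← map_inv, MulAut.smul_def, MulAut.conj_apply, inv_inv]
      rw [e] at h1
      exact h1
    refine ⟨QuotientGroup.mk g, h.smul_mk.2 (h.P_le h2), ?_⟩
    intro y hy
    obtain ⟨k, rfl⟩ := QuotientGroup.mk_surjective y
    have hy' : k⁻¹ * t * k ∈ h.H := h.smul_mk.1 hy
    have h3 : k⁻¹ * t * k ∈ (P : Subgroup G) := by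
      apply h.mem_P hy' (k := 1)
      have e : (k⁻¹ * t * k) ^ 2 ^ 1 = k⁻¹ * (t ^ 2) * k := by
        rw [pow_one, pow_two, pow_two]; group
      rw [e, ← ht, pow_orderOf_eq_one]; group
    rw [QuotientGroup.eq]
    apply h.ti (x := g⁻¹ * t * g) (h.P_le_M h2)
    · intro e
      have : t = 1 := by
        have e2 : t = g * (g⁻¹ * t * g) * g⁻¹ := by group
        rw [e2, e]; group
      rw [this, orderOf_one] at ht
      omega
    · have e : k⁻¹ * g * (g⁻¹ * t * g) * (k⁻¹ * g)⁻¹ = k⁻¹ * t * k := by group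
      rw [e]
      exact h.P_le_M h3
  nt := by
    obtain ⟨g, hg⟩ : ∃ g, g ∉ h.H := by
      by_contra hc
      push Not at hc
      exact h.H_ne_top ((eq_top_iff' _).2 hc)
    refine ⟨h.pt, QuotientGroup.mk g, ?_⟩
    intro e
    have e2 := QuotientGroup.eq.1 e
    rw [inv_one, one_mul] at e2
    exact hg e2
  ex := by
    obtain ⟨z, -, hz, -⟩ := h.exists_central
    exact ⟨z, hz⟩

theorem tc : Cfsg.Agent.H30.Bend.TC G h.Om := by
  intro a x y hx hy ⟨i, hi⟩ ⟨j, hj⟩
  obtain ⟨g, rfl⟩ := QuotientGroup.mk_surjective a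
  have hx' := h.smul_mk.1 hx
  have hy' := h.smul_mk.1 hy
  have e : ∀ (x : G) (i : ℕ), (g⁻¹ * x * g) ^ i = g⁻¹ * x ^ i * g := by
    intro x i
    have := conj_pow (a := g⁻¹) (b := x) (i := i)
    rwa [inv_inv] at this
  have h1 := h.mem_P hx' (k := i) (by rw [e, hi]; group)
  have h2 := h.mem_P hy' (k := j) (by rw [e, hj]; group)
  have h3 := (P : Subgroup G).mul_mem h1 h2
  have e2 : g⁻¹ * x * g * (g⁻¹ * y * g) = g⁻¹ * (x * y) * g := by group
  rw [e2] at h3
  obtain ⟨k, hk⟩ := P.isPGroup' ⟨_, h3⟩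
  have hk' : (g⁻¹ * (x * y) * g) ^ 2 ^ k = 1 := congrArg Subtype.val hk
  rw [e] at hk'
  refine ⟨k, ?_⟩
  have e3 : (x * y) ^ 2 ^ k = g * (g⁻¹ * (x * y) ^ 2 ^ k * g) * g⁻¹ := by group
  rw [e3, hk']; group

theorem comm2 : Cfsg.Agent.H30.Bend.Comm2 G := by
  by_contra hc
  apply h.H_not_le
  obtain ⟨z, hz, hzo, hzc⟩ := h.exists_central
  have hz1 : z ≠ 1 := by
    rintro rfl
    rw [orderOf_one] at hzo
    omega
  intro g hg
  have h1 : g * z * g⁻¹ ∈ (P : Subgroup G) := h.P_conj hg hz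
  have h2 : orderOf (g * z * g⁻¹) = 2 := by rw [StrEmb.orderOf_conj, hzo]
  have h3 : g * z * g⁻¹ = z := by
    by_contra hne
    exact hc ⟨_, z, h2, hzo, hne, hzc _ h1⟩
  apply h.cent (h.P_le_M hz) hz1
  nth_rw 1 [← h3]
  group

/-- `P` is transitive on the points different from the base point -/
theorem trans (hFT : Cfsg.Agent.H30.Bend.OddSolv.{u}) {b c : h.Om} (hb : b ≠ h.pt) (hc : c ≠ h.pt) :
    ∃ s ∈ (P : Subgroup G), s • b = c := by
  obtain ⟨s, hs, hsb⟩ := Cfsg.Agent.H30.Bend.stmt_all hFT _ G rfl h.Om h.bh h.tc h.comm2 h.pt b c hb hc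
  obtain ⟨hs1, j, hj⟩ := hs
  exact ⟨s, h.mem_P (h.smul_pt.1 hs1) hj, hsb⟩

theorem exists_inv_pow {x : G} (hx : x ∈ (P : Subgroup G)) (hx1 : x ≠ 1) :
    ∃ j : ℕ, orderOf (x ^ j) = 2 := by
  obtain ⟨k, hk⟩ := P.isPGroup' ⟨x, hx⟩
  have hk' : x ^ 2 ^ k = 1 := congrArg Subtype.val hk
  obtain ⟨j, -, hj⟩ := (Nat.dvd_prime_pow Nat.prime_two).1 (orderOf_dvd_of_pow_eq_one hk')
  have hj0 : j ≠ 0 := by
    rintro rfl
    rw [pow_zero, orderOf_eq_one_iff] at hj
    exact hx1 hj
  obtain ⟨i, rfl⟩ := Nat.exists_eq_succ_of_ne_zero hj0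
  refine ⟨2 ^ i, ?_⟩
  rw [orderOf_pow_of_dvd (by positivity) (by rw [hj]; exact pow_dvd_pow 2 (Nat.le_succ i)), hj,
    Nat.succ_eq_add_one, pow_succ, Nat.mul_div_cancel_left _ (by positivity)]

/-- a nontrivial element of `P` fixes only the base point -/
theorem P_fix {x : G} (hx : x ∈ (P : Subgroup G)) (hx1 : x ≠ 1) {b : h.Om} (hb : x • b = b) : b = h.pt := by
  obtain ⟨j, hj⟩ := h.exists_inv_pow hx hx1
  apply h.bh.fix_unique hj
  · have : ∀ j : ℕ, x ^ j • b = b := by
      intro j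
      induction j with
      | zero => rw [pow_zero, one_smul]
      | succ n ih => rw [pow_succ, mul_smul, hb, ih]
    exact this j
  · rw [h.smul_pt]
    exact h.P_le ((P : Subgroup G).pow_mem hx j)

theorem faithful {g : G} (hg : ∀ a : h.Om, g • a = a) : g = 1 := by
  have hN : (MulAction.toPermHom G h.Om).ker = ⊥ := by
    apply h.odd _ inferInstance
    intro h2
    haveI := Fact.mk Nat.prime_two
    obtain ⟨x, hx⟩ := exists_prime_orderOf_dvd_card' 2 h2
    have hx2 : ∀ a : h.Om, (x : G) • a = a := by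
      intro a
      have := congrArg (fun f => f a) (MonoidHom.mem_ker.1 x.2)
      exact this
    obtain ⟨a, b, hab⟩ := h.bh.nt
    apply hab
    apply h.bh.fix_unique (t := (x : G)) (by rw [Subgroup.orderOf_coe]; exact hx) (hx2 a) (hx2 b)
  have : g ∈ (MulAction.toPermHom G h.Om).ker := by
    rw [MonoidHom.mem_ker]
    ext a
    exact hg a
  rw [hN, mem_bot] at this
  exact this

theorem fin_Om : Finite h.Om := inferInstance

/-- the orbit of `P` -/
theorem card_Om (hFT : Cfsg.Agent.H30.Bend.OddSolv.{u}) : Nat.card h.Om = Nat.card (P : Subgroup G) + 1 := by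
  classical
  obtain ⟨b, hb⟩ : ∃ b : h.Om, b ≠ h.pt := by
    obtain ⟨a, b, hab⟩ := h.bh.nt
    by_cases ha : a = h.pt
    · exact ⟨b, fun e => hab (ha.trans e.symm)⟩
    · exact ⟨a, ha⟩
  haveI := Fintype.ofFinite h.Om
  have h1 : Nat.card (P : Subgroup G) = Nat.card {c : h.Om // c ≠ h.pt} := by
    apply Nat.card_congr
    refine Equiv.ofBijective (fun s : (P : Subgroup G) => (⟨(s : G) • b, ?_⟩ : {c : h.Om // c ≠ h.pt})) ⟨?_, ?_⟩
    · intro e
      apply hb
      have : (s : G) • b = (s : G) • h.pt := by rw [e, h.smul_pt.2 (h.P_le s.2)]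
      exact MulAction.injective (s : G) this
    · intro s s' e
      have e2 : (s : G) • b = (s' : G) • b := congrArg Subtype.val e
      by_contra hne
      apply hb
      apply h.P_fix (x := (s'⁻¹ : G) * s) ((P : Subgroup G).mul_mem ((P : Subgroup G).inv_mem s'.2) s.2)
      · intro e3
        apply hne
        apply Subtype.ext
        exact (inv_mul_eq_one.1 e3).symm
      · rw [mul_smul, e2, inv_smul_smul]
    · intro c
      obtain ⟨s, hs, hsc⟩ := h.trans hFT hb c.2
      exact ⟨⟨s, hs⟩, Subtype.ext hsc⟩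
  rw [h1, Nat.card_eq_fintype_card, Nat.card_eq_fintype_card, Fintype.card_subtype_compl]
  simp only [Fintype.card_unique]
  have : 0 < Fintype.card h.Om := Fintype.card_pos_iff.2 ⟨h.pt⟩
  omega

/-- `M` is a 2-group -/
theorem M_eq (hFT : Cfsg.Agent.H30.Bend.OddSolv.{u}) : h.M = P := by
  classical
  haveI := Fact.mk Nat.prime_two
  have h1 : ∀ p : ℕ, p.Prime → p ∣ Nat.card h.M → p = 2 := by
    intro p hp hpM
    by_contra hp2
    haveI := Fact.mk hp
    obtain ⟨y, hy⟩ := exists_prime_orderOf_dvd_card' p hpM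
    have hyo : orderOf (y : G) = p := by rw [Subgroup.orderOf_coe, hy]
    haveI := h.nil
    -- `y` commutes with `P`
    have hcomm : ∀ s ∈ (P : Subgroup G), s * (y : G) = y * s := by
      intro s hs
      have h3 : Commute (⟨s, h.P_le_M hs⟩ : h.M) y := by
        apply commute_of_coprime
        rw [hy]
        obtain ⟨k, hk⟩ := P.isPGroup' ⟨s, hs⟩
        have hk' : s ^ 2 ^ k = 1 := congrArg Subtype.val hk
        have h4 : orderOf (⟨s, h.P_le_M hs⟩ : h.M) ∣ 2 ^ k := by
          rw [Subgroup.orderOf_mk]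
          exact orderOf_dvd_of_pow_eq_one hk'
        apply Nat.Coprime.coprime_dvd_left h4
        apply Nat.Coprime.pow_left
        exact (Nat.coprime_primes Nat.prime_two hp).2 (Ne.symm hp2)
      exact congrArg Subtype.val h3
    have hyH : (y : G) ∈ h.H := h.M_le y.2
    -- a fixed point
    have hfix : ∃ b : h.Om, b ≠ h.pt ∧ (y : G) • b = b := by
      by_contra hno
      push Not at hno
      have hpg : IsPGroup p (zpowers (y : G)) := by
        apply IsPGroup.of_card (n := 1)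
        rw [Nat.card_zpowers, hyo, pow_one]
      have h3 := hpg.card_modEq_card_fixedPoints (α := h.Om)
      have h4 : MulAction.fixedPoints (zpowers (y : G)) h.Om = {h.pt} := by
        ext c
        rw [Set.mem_singleton_iff, MulAction.mem_fixedPoints]
        constructor
        · intro hc
          by_contra hc1
          exact hno c hc1 (hc ⟨y, mem_zpowers _⟩)
        · rintro rfl
          rintro ⟨g, hg⟩
          have : g ∈ h.H := (zpowers_le.2 hyH) hg
          exact h.smul_pt.2 this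
      rw [h4, Nat.card_coe_set_eq, Set.ncard_singleton, h.card_Om hFT] at h3
      have h5 : p ∣ Nat.card (P : Subgroup G) := by
        have := (Nat.modEq_iff_dvd' (by omega)).1 h3.symm
        simpa using this
      obtain ⟨k, hk⟩ := P.isPGroup'.exists_card_eq
      rw [hk] at h5
      exact hp2 ((Nat.prime_dvd_prime_iff_eq hp Nat.prime_two).1 (hp.dvd_of_dvd_pow h5))
    obtain ⟨b, hb, hyb⟩ := hfix
    have hy1 : (y : G) = 1 := by
      apply h.faithful
      intro c
      by_cases hc : c = h.pt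
      · rw [hc]; exact h.smul_pt.2 hyH
      · obtain ⟨s, hs, rfl⟩ := h.trans hFT hb hc
        rw [← mul_smul, ← hcomm s hs, mul_smul, hyb]
    rw [hy1, orderOf_one] at hyo
    exact hp.one_lt.ne hyo
  have h2 : IsPGroup 2 h.M := by
    rw [IsPGroup.iff_card]
    refine ⟨(Nat.card h.M).factorization 2, ?_⟩
    have h0 : Nat.card h.M ≠ 0 := Nat.card_pos.ne'
    apply Nat.eq_of_factorization_eq h0 (by positivity)
    intro p
    by_cases hp : p.Prime
    · by_cases hpM : p ∣ Nat.card h.M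
      · rw [h1 p hp hpM, Nat.Prime.factorization_pow Nat.prime_two]; simp
      · rw [Nat.factorization_eq_zero_of_not_dvd hpM, Nat.Prime.factorization_pow Nat.prime_two]
        have : p ≠ 2 ∨ (Nat.card h.M).factorization 2 = 0 := by
          by_cases hp2 : p = 2
          · right; rw [← hp2]; exact Nat.factorization_eq_zero_of_not_dvd hpM
          · left; exact hp2
        rcases this with h5 | h5
        · rw [Finsupp.single_eq_of_ne h5]
        · rw [h5]; simp
    · rw [Nat.factorization_eq_zero_of_not_prime _ hp, Nat.factorization_eq_zero_of_not_prime _ hp]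
  exact P.is_maximal' h2 h.P_le_M

end Hyp

end Cfsg.Agent.JX
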