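import Mathlib
import Cfsg.Prelude.Def_LieExceptional
import Cfsg.Agent.JX.SE
import Cfsg.Agent.H37.ZMain
import Cfsg.Agent.SuzId.ZasHyp
import Cfsg.Agent.S1230
import Cfsg.Agent.ClassBase.RelHom

/-! Groups in which the centralizers of elements are TI: the Zassenhaus groups. -/

set_option autoImplicit false
set_option linter.unusedSectionVars false
set_option linter.style.haveILetI false

namespace Cfsg.Agent.JX

open Subgroup Cfsg Cfsg.Agent.H30.Bend

universe u

namespace Hyp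

variable {G : Type u} [Group G] [Finite G] {P : Sylow 2 G} {w : G} (h : Hyp G P w)
include h

theorem cent_P (hFT : OddSolv.{u}) {x : G} (hx : x ∈ (P : Subgroup G)) (hx1 : x ≠ 1) {y : G}
    (hy : x * y = y * x) : y ∈ (P : Subgroup G) := by
  rw [← h.M_eq hFT]
  exact h.cent (h.P_le_M hx) hx1 hy

theorem reg (hFT : OddSolv.{u}) {b c : h.Om} (hb : b ≠ h.pt) (hc : c ≠ h.pt) :
    ∃! s : (P : Subgroup G), (s : G) • b = c := by
  obtain ⟨s, hs, hsb⟩ := h.trans hFT hb hc
  refine ⟨⟨s, hs⟩, hsb, ?_⟩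
  intro s' hs'
  by_contra hne
  apply hb
  apply h.P_fix (x := s⁻¹ * (s' : G)) ((P : Subgroup G).mul_mem ((P : Subgroup G).inv_mem hs) s'.2)
  · intro e3
    apply hne
    exact Subtype.ext (inv_mul_eq_one.1 e3).symm
  · rw [mul_smul, hs', ← hsb, inv_smul_smul]

theorem three (hFT : OddSolv.{u}) {g : G} {b c : h.Om} (hb : b ≠ h.pt) (hc : c ≠ h.pt) (hbc : b ≠ c)
    (hg : g • h.pt = h.pt) (hgb : g • b = b) (hgc : g • c = c) : g = 1 := by
  obtain ⟨s, hs, hsb⟩ := h.trans hFT hb hc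
  have hgH : g ∈ h.H := h.smul_pt.1 hg
  have hs1 : s ≠ 1 := by
    rintro rfl
    rw [one_smul] at hsb
    exact hbc hsb
  have h1 : s⁻¹ * (g * s * g⁻¹) ∈ (P : Subgroup G) :=
    (P : Subgroup G).mul_mem ((P : Subgroup G).inv_mem hs) (h.P_conj hgH hs)
  have h2 : (s⁻¹ * (g * s * g⁻¹)) • b = b := by
    have e1 : g⁻¹ • b = b := by rw [inv_smul_eq_iff, hgb]
    rw [mul_smul, mul_smul, mul_smul, e1, hsb, hgc, ← hsb, inv_smul_smul]
  have h3 : s⁻¹ * (g * s * g⁻¹) = 1 := by
    by_contra hne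
    exact hb (h.P_fix h1 hne h2)
  have h4 : s * g = g * s := by
    have := inv_mul_eq_one.1 h3
    nth_rw 1 [this]
    group
  have h5 := h.cent_P hFT hs hs1 h4
  by_contra hg1
  exact hb (h.P_fix h5 hg1 hgb)

theorem exists_pt : ∃ b : h.Om, b ≠ h.pt := by
  obtain ⟨a, b, hab⟩ := h.bh.nt
  by_cases ha : a = h.pt
  · exact ⟨b, fun e => hab (ha.trans e.symm)⟩
  · exact ⟨a, ha⟩

theorem exists_D (hFT : OddSolv.{u}) {b : h.Om} (hb : b ≠ h.pt) :
    ∃ d : G, d ≠ 1 ∧ d • h.pt = h.pt ∧ d • b = b := by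
  by_contra hno
  push Not at hno
  apply h.H_not_le
  intro g hg
  have hgb : g • b ≠ h.pt := by
    intro e
    apply hb
    have : g • b = g • h.pt := by rw [e, h.smul_pt.2 hg]
    exact MulAction.injective g this
  obtain ⟨s, hs, hsb⟩ := h.trans hFT hb hgb
  have h1 : s⁻¹ * g = 1 := by
    by_contra hne
    apply hno _ hne
    · exact h.smul_pt.2 (h.H.mul_mem (h.H.inv_mem (h.P_le hs)) hg)
    · rw [mul_smul, ← hsb, inv_smul_smul]
  rw [← inv_mul_eq_one.1 h1]
  exact h.P_le_M hs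

theorem zas (hFT : OddSolv.{u}) : IsZassenhausGroup G h.Om := by
  have htr : ∀ a b c d : h.Om, a ≠ b → c ≠ d → ∃ g : G, g • a = c ∧ g • b = d := by
    have key : ∀ a b b' : h.Om, a ≠ b → a ≠ b' → ∃ g : G, g • a = a ∧ g • b = b' := by
      intro a b b' hab hab'
      obtain ⟨g, hg⟩ := h.bh.trans a h.pt
      obtain ⟨s, hs, hsb⟩ := h.trans hFT (b := g • b) (c := g • b')
        (by rw [← hg]; exact fun e => hab (MulAction.injective g e).symm)
        (by rw [← hg]; exact fun e => hab' (MulAction.injective g e).symm)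
      refine ⟨g⁻¹ * s * g, ?_, ?_⟩
      · rw [mul_smul, mul_smul, hg, h.smul_pt.2 (h.P_le hs), ← hg, inv_smul_smul]
      · rw [mul_smul, mul_smul, hsb, inv_smul_smul]
    intro a b c d hab hcd
    obtain ⟨g, hg⟩ := h.bh.trans a c
    obtain ⟨k, hk1, hk2⟩ := key c (g • b) d (by rw [← hg]; exact fun e => hab (MulAction.injective g e)) hcd
    exact ⟨k * g, by rw [mul_smul, hg, hk1], by rw [mul_smul, hk2]⟩
  refine ⟨⟨?_⟩, ?_, ?_, ?_, ?_⟩
  · intro g g' hgg
    have h1 := h.faithful (g := g⁻¹ * g') (by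
      intro a
      rw [mul_smul, ← hgg a, inv_smul_smul])
    exact inv_mul_eq_one.1 h1
  · rw [MulAction.is_two_pretransitive_iff]
    intro x y z t hxy hzt
    exact htr x y z t hxy hzt
  · intro g a b c hab hbc hac hga hgb hgc
    obtain ⟨k, hk⟩ := h.bh.trans a h.pt
    have h1 : k * g * k⁻¹ = 1 := by
      apply h.three hFT (b := k • b) (c := k • c)
      · rw [← hk]; exact fun e => hab (MulAction.injective k e).symm
      · rw [← hk]; exact fun e => hac (MulAction.injective k e).symm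
      · exact fun e => hbc (MulAction.injective k e)
      · rw [mul_smul, mul_smul, ← hk, inv_smul_smul, hga]
      · rw [mul_smul, mul_smul, inv_smul_smul, hgb]
      · rw [mul_smul, mul_smul, inv_smul_smul, hgc]
    have e : g = k⁻¹ * (k * g * k⁻¹) * k := by group
    rw [e, h1]; group
  · obtain ⟨b, hb⟩ := h.exists_pt
    obtain ⟨d, hd1, hd2, hd3⟩ := h.exists_D hFT hb
    exact ⟨d, hd1, h.pt, b, hb.symm, hd2, hd3⟩
  · intro N hN hNt
    by_contra hno
    push Not at hno
    have hN1 : ∀ a b : h.Om, ∃ n ∈ N, n • a = b := by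
      intro a b
      obtain ⟨n, hn⟩ := hNt.exists_smul_eq a b
      exact ⟨n, n.2, hn⟩
    have hN2 : ∀ n ∈ N, n • h.pt = h.pt → n = 1 := by
      intro n hn hn1
      have h2 := hno h.pt
      have h3 : (⟨n, hn⟩ : N) ∈ (⊥ : Subgroup N) := by
        rw [← h2]
        exact hn1
      exact congrArg Subtype.val (mem_bot.1 h3)
    have h1 : Nat.card N = Nat.card h.Om := by
      apply Nat.card_congr
      refine Equiv.ofBijective (fun n : N => (n : G) • h.pt) ⟨?_, ?_⟩
      · intro n n' e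
        have e2 : (n : G) • h.pt = (n' : G) • h.pt := e
        have := hN2 ((n'⁻¹ : G) * n) (N.mul_mem (N.inv_mem n'.2) n.2) (by
          rw [mul_smul, e2, inv_smul_smul])
        exact Subtype.ext (inv_mul_eq_one.1 this).symm
      · intro c
        obtain ⟨n, hn, hnc⟩ := hN1 h.pt c
        exact ⟨⟨n, hn⟩, hnc⟩
    have h4 := h.odd N hN (by
      rw [h1, h.card_Om hFT]
      intro h5
      obtain ⟨k, hk⟩ := P.isPGroup'.exists_card_eq
      have hk0 : k ≠ 0 := by
        rintro rfl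
        rw [pow_zero] at hk
        exact h.ne (card_eq_one.1 hk)
      rw [hk] at h5
      have h6 : 2 ∣ 2 ^ k := dvd_pow_self 2 hk0
      omega)
    obtain ⟨b, hb⟩ := h.exists_pt
    obtain ⟨n, hn, hnb⟩ := hN1 h.pt b
    apply hb
    rw [h4, mem_bot] at hn
    rw [← hnb, hn, one_smul]

/-- the two-point stabilizer acts semiregularly on `P` -/
theorem D_fpf (hFT : OddSolv.{u}) {b : h.Om} (hb : b ≠ h.pt) {d x : G} (hdb : d • b = b)
    (hx : x ∈ (P : Subgroup G)) (hx1 : x ≠ 1) (hdx : d * x = x * d) : d = 1 := by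
  by_contra hd1
  exact hb (h.P_fix (h.cent_P hFT hx hx1 hdx.symm) hd1 hdb)

end Hyp

end Cfsg.Agent.JX
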