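import Mathlib
import Cfsg.Agent.JX.Frob
import Cfsg.Agent.JX.Zas

/-! Groups in which the centralizers of elements are TI: the end. -/

set_option autoImplicit false
set_option linter.unusedSectionVars false
set_option linter.style.haveILetI false

namespace Cfsg.Agent.JX

open Subgroup Cfsg Cfsg.Agent.H30.Bend

universe u

namespace Hyp

variable {G : Type u} [Group G] [Finite G] {P : Sylow 2 G} {w : G} (h : Hyp G P w)
include h

theorem exists_conj {t : G} (ht : orderOf t = 2) : ∃ g : G, g⁻¹ * t * g ∈ (P : Subgroup G) := by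
  obtain ⟨a, ha, -⟩ := h.bh.inv t ht
  obtain ⟨g, rfl⟩ := QuotientGroup.mk_surjective a
  refine ⟨g, h.mem_P (h.smul_mk.1 ha) (k := 1) ?_⟩
  have e : (g⁻¹ * t * g) ^ 2 ^ 1 = g⁻¹ * (t ^ 2) * g := by
    rw [pow_one, pow_two, pow_two]; group
  rw [e, ← ht, pow_orderOf_eq_one]; group

theorem isKer (hFT : OddSolv.{u}) : H37.ZT.IsKer G h.pt (P : Subgroup G) where
  le := fun s hs => h.smul_pt.2 (h.P_le hs)
  norm := fun g hg u hu => h.P_conj (h.smul_pt.1 hg) hu
  reg := fun _ _ hy hz => h.reg hFT hy hz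

theorem abelian_case (hFT : OddSolv.{u}) (hab : ∀ x ∈ (P : Subgroup G), ∀ y ∈ (P : Subgroup G), x * y = y * x) :
    ∃ n : ℕ, 2 ≤ n ∧ Nonempty (G ≃* Matrix.ProjectiveSpecialLinearGroup (Fin 2) (GaloisField 2 n)) := by
  classical
  haveI := Fact.mk Nat.prime_two
  obtain ⟨b, hb⟩ := h.exists_pt
  obtain ⟨k, hk⟩ := P.isPGroup'.exists_card_eq
  have hk0 : k ≠ 0 := by
    rintro rfl
    rw [pow_zero] at hk
    exact h.ne (card_eq_one.1 hk)
  have h2k : 2 ∣ 2 ^ k := dvd_pow_self 2 hk0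
  have hcard : Nat.card (H34.stab2 G h.pt b) = Nat.card (P : Subgroup G) - 1 := by
    have h1 := H37.ZT.zass_abelian (h.zas hFT) hb.symm (h.isKer hFT) hab
    rw [h.card_Om hFT] at h1
    rcases h1 with h1 | ⟨h1, -⟩
    · omega
    · exfalso
      rw [hk] at h1
      have : 0 < 2 ^ k := by positivity
      omega
  obtain ⟨z, hz, hzo, -⟩ := h.exists_central
  have hz1 : z ≠ 1 := by
    rintro rfl
    rw [orderOf_one] at hzo
    omega
  have hinv : ∀ x ∈ (P : Subgroup G), x * x = 1 := by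
    have hbij : Function.Bijective (fun d : H34.stab2 G h.pt b =>
        (⟨⟨(d : G) * z * (d : G)⁻¹, h.P_conj (h.smul_pt.1 (H34.mem_stab2.1 d.2).1) hz⟩, by
          intro e
          apply hz1
          have e1 : (d : G) * z * (d : G)⁻¹ = 1 := congrArg Subtype.val e
          have e2 : z = (d : G)⁻¹ * ((d : G) * z * (d : G)⁻¹) * d := by group
          rw [e2, e1]; group⟩ : {x : (P : Subgroup G) // x ≠ 1})) := by
      rw [Nat.bijective_iff_injective_and_card]
      constructor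
      · intro d d' e
        have e1 : (d : G) * z * (d : G)⁻¹ = (d' : G) * z * (d' : G)⁻¹ :=
          congrArg Subtype.val (congrArg Subtype.val e)
        have h1 : (d' : G)⁻¹ * (d : G) = 1 := by
          apply h.D_fpf hFT hb (x := z) _ hz hz1
          · calc (d' : G)⁻¹ * d * z = (d' : G)⁻¹ * ((d : G) * z * (d : G)⁻¹) * d := by group
              _ = (d' : G)⁻¹ * ((d' : G) * z * (d' : G)⁻¹) * d := by rw [e1]
              _ = z * ((d' : G)⁻¹ * d) := by group
          · rw [mul_smul, (H34.mem_stab2.1 d.2).2, inv_smul_eq_iff, (H34.mem_stab2.1 d'.2).2]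
        exact Subtype.ext (inv_mul_eq_one.1 h1).symm
      · rw [hcard]
        haveI := Fintype.ofFinite (P : Subgroup G)
        rw [Nat.card_eq_fintype_card, Nat.card_eq_fintype_card, Fintype.card_subtype_compl]
        simp
    intro x hx
    by_cases hx1 : x = 1
    · rw [hx1, one_mul]
    · obtain ⟨d, hd⟩ := hbij.2 ⟨⟨x, hx⟩, fun e => hx1 (congrArg Subtype.val e)⟩
      have e1 : (d : G) * z * (d : G)⁻¹ = x := congrArg Subtype.val (congrArg Subtype.val hd)
      have e2 : z * z = 1 := by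
        have := pow_orderOf_eq_one z
        rwa [hzo, pow_two] at this
      rw [← e1]
      calc (d : G) * z * (d : G)⁻¹ * ((d : G) * z * (d : G)⁻¹) = (d : G) * (z * z) * (d : G)⁻¹ := by group
        _ = 1 := by rw [e2]; group
  have hD : 2 ≤ Nat.card (H34.stab2 G h.pt b) := by
    obtain ⟨d, hd1, hd2, hd3⟩ := h.exists_D hFT hb
    have : Nontrivial (H34.stab2 G h.pt b) :=
      ⟨⟨d, H34.mem_stab2.2 ⟨hd2, hd3⟩⟩, 1, fun e => hd1 (congrArg Subtype.val e)⟩
    exact Finite.one_lt_card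
  have hcent : ∀ t : G, orderOf t = 2 → ∃ g : G, ∀ c ∈ centralizer ({t} : Set G), g⁻¹ * c * g ∈ (P : Subgroup G) := by
    intro t ht
    obtain ⟨g, hg⟩ := h.exists_conj ht
    refine ⟨g, fun c hc => ?_⟩
    apply h.cent_P hFT hg
    · intro e
      have e2 : t = g * (g⁻¹ * t * g) * g⁻¹ := by group
      rw [e] at e2
      rw [e2] at ht
      simp at ht
    · have := mem_cent.1 hc
      calc g⁻¹ * t * g * (g⁻¹ * c * g) = g⁻¹ * (t * c) * g := by group
        _ = g⁻¹ * (c * t) * g := by rw [this]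
        _ = g⁻¹ * c * g * (g⁻¹ * t * g) := by group
  have hnc : ¬ IsCyclic (P : Subgroup G) := by
    intro hc
    obtain ⟨g, hg⟩ := hc.exists_generator
    have h1 : orderOf g = Nat.card (P : Subgroup G) := orderOf_eq_card_of_forall_mem_zpowers hg
    have h3 : orderOf g ∣ 2 := by
      apply orderOf_dvd_of_pow_eq_one
      rw [pow_two]
      exact Subtype.ext (hinv g g.2)
    rw [h1] at h3
    have := Nat.le_of_dvd (by norm_num) h3
    omega
  have hnn : ¬ (P : Subgroup G).Normal := fun hn => h.ne (h.noab _ hn hab)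
  have hC : ∀ t : G, orderOf t = 2 → IsMulCommutative (Subgroup.centralizer ({t} : Set G)) ∧
      ∀ c ∈ Subgroup.centralizer ({t} : Set G), c ^ 2 = 1 := by
    intro t ht
    obtain ⟨g, hg⟩ := hcent t ht
    constructor
    · refine ⟨⟨fun a c => ?_⟩⟩
      apply Subtype.ext
      have h1 := hab _ (hg a a.2) _ (hg c c.2)
      calc ((a * c : centralizer ({t} : Set G)) : G) = g * (g⁻¹ * a * g * (g⁻¹ * c * g)) * g⁻¹ := by
            rw [Subgroup.coe_mul]; group
        _ = g * (g⁻¹ * c * g * (g⁻¹ * a * g)) * g⁻¹ := by rw [h1]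
        _ = ((c * a : centralizer ({t} : Set G)) : G) := by rw [Subgroup.coe_mul]; group
    · intro c hc
      have h1 := hinv _ (hg c hc)
      calc c ^ 2 = g * (g⁻¹ * c * g * (g⁻¹ * c * g)) * g⁻¹ := by rw [pow_two]; group
        _ = 1 := by rw [h1]; group
  obtain ⟨F, fF, fF', hF, ⟨e⟩⟩ := Cfsg.Agent.S1230.result P hnc hnn hC
  have hF2 : Fintype.card F = 2 ^ k := hF.trans hk
  have hk2 : 2 ≤ k := by
    by_contra hlt
    have : k = 1 := by omega
    rw [hk, this] at hcard
    omega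
  refine ⟨k, hk2, ⟨e.trans (ClassBase.pslCongr ?_)⟩⟩
  haveI : Finite (GaloisField 2 k) := Nat.finite_of_card_ne_zero (by
    rw [GaloisField.card 2 k hk0]; positivity)
  letI := Fintype.ofFinite (GaloisField 2 k)
  apply FiniteField.ringEquivOfCardEq
  rw [hF2, ← Nat.card_eq_fintype_card, GaloisField.card 2 k hk0]

theorem nonabelian_case (hFT : OddSolv.{u})
    (hna : ∃ x ∈ (P : Subgroup G), ∃ y ∈ (P : Subgroup G), x * y ≠ y * x) : False := by
  classical
  obtain ⟨b, hb⟩ := h.exists_pt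
  have hk := h.isKer hFT
  obtain ⟨n, -, -, hcO, -, -, hcD, -⟩ := SuzId.zas_main (h.zas hFT) hb.symm (P : Subgroup G) hk.le hk.norm
    hk.reg P.isPGroup' hna
  have hcP : Nat.card (P : Subgroup G) = 2 ^ n * 2 ^ n := by
    rw [h.card_Om hFT] at hcO
    have : (2 : ℕ) ^ (2 * n) = 2 ^ n * 2 ^ n := by rw [two_mul, pow_add]
    omega
  set D : Subgroup G := MulAction.stabilizer G h.pt ⊓ MulAction.stabilizer G b with hD
  have hDH : ∀ d ∈ D, d ∈ h.H := fun d hd => h.smul_pt.1 (MulAction.mem_stabilizer_iff.1 (mem_inf.1 hd).1)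
  have hDb : ∀ d ∈ D, d • b = b := fun d hd => MulAction.mem_stabilizer_iff.1 (mem_inf.1 hd).2
  have hcD' : Nat.card D + 1 = 2 ^ n := by
    rw [hcD]
    have : 0 < 2 ^ n := by positivity
    omega
  obtain ⟨z, hz, hzo, hzc⟩ := h.exists_central
  have hz1 : z ≠ 1 := by
    rintro rfl
    rw [orderOf_one] at hzo
    omega
  obtain ⟨x, hx, y, hy, hxy⟩ := hna
  let Z : Subgroup G := (P : Subgroup G) ⊓ centralizer ((P : Subgroup G) : Set G)
  have hZ : ∀ v, v ∈ Z ↔ v ∈ (P : Subgroup G) ∧ ∀ s ∈ (P : Subgroup G), s * v = v * s := by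
    intro v
    rw [mem_inf, mem_centralizer_iff]
    rfl
  have hzZ : z ∈ Z := (hZ z).2 ⟨hz, hzc⟩
  have hxZ : x ∉ Z := by
    intro hx2
    exact hxy (((hZ x).1 hx2).2 y hy).symm
  have hZn : ∀ g ∈ h.H, ∀ v ∈ Z, g * v * g⁻¹ ∈ Z := by
    intro g hg v hv
    obtain ⟨h1, h2⟩ := (hZ v).1 hv
    refine (hZ _).2 ⟨h.P_conj hg h1, ?_⟩
    intro s hs
    have h3 := h2 _ (h.P_conj (h.H.inv_mem hg) hs)
    calc s * (g * v * g⁻¹) = g * (g⁻¹ * s * g⁻¹⁻¹ * v) * g⁻¹ := by group
      _ = g * (v * (g⁻¹ * s * g⁻¹⁻¹)) * g⁻¹ := by rw [h3]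
      _ = g * v * g⁻¹ * s := by group
  have hx1 : x ≠ 1 := by
    rintro rfl
    exact hxy (by rw [one_mul, mul_one])
  let B : Subgroup G := centralizer ({x} : Set G)
  have hB : ∀ v, v ∈ B ↔ x * v = v * x := fun v => mem_cent
  have hBn : ∀ g ∈ h.H, ∀ v ∈ B, g * v * g⁻¹ ∈ B := by
    intro g hg v hv
    have h1 := h.tic x g z hz1 (hzc x hx) (((hZ _).1 (hZn g hg z hzZ)).2 x hx)
    exact (mem_normalizer_iff.1 h1 v).1 hv
  have hxB : x ∈ B := (hB x).2 rfl
  have hZB : Z ≤ B := fun v hv => (hB v).2 (((hZ v).1 hv).2 x hx)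
  have hBP : B ≤ (P : Subgroup G) := fun v hv => h.cent_P hFT hx hx1 ((hB v).1 hv)
  -- `|Z| ≥ |D| + 1`
  have hZcard : Nat.card D + 1 ≤ Nat.card Z := by
    let f : Option D → Z := fun o => match o with
      | none => 1
      | some d => ⟨(d : G) * z * (d : G)⁻¹, hZn d (hDH d d.2) z hzZ⟩
    have hf : Function.Injective f := by
      intro o o' e
      have key : ∀ d : D, (d : G) * z * (d : G)⁻¹ ≠ 1 := by
        intro d e1
        apply hz1
        have e2 : z = (d : G)⁻¹ * ((d : G) * z * (d : G)⁻¹) * d := by group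
        rw [e2, e1]; group
      rcases o with _ | d <;> rcases o' with _ | d'
      · rfl
      · exact absurd (congrArg Subtype.val e).symm (key d')
      · exact absurd (congrArg Subtype.val e) (key d)
      · have e1 : (d : G) * z * (d : G)⁻¹ = (d' : G) * z * (d' : G)⁻¹ := congrArg Subtype.val e
        have h1 : (d' : G)⁻¹ * (d : G) = 1 := by
          apply h.D_fpf hFT hb (x := z) _ hz hz1
          · calc (d' : G)⁻¹ * d * z = (d' : G)⁻¹ * ((d : G) * z * (d : G)⁻¹) * d := by group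
              _ = (d' : G)⁻¹ * ((d' : G) * z * (d' : G)⁻¹) * d := by rw [e1]
              _ = z * ((d' : G)⁻¹ * d) := by group
          · rw [mul_smul, hDb d d.2, inv_smul_eq_iff, hDb d' d'.2]
        rw [Subtype.ext (inv_mul_eq_one.1 h1).symm]
    have := Nat.card_le_card_of_injective f hf
    rw [Finite.card_option] at this
    exact this
  -- surjectivity on `Z`
  have hsurj : ∀ k ∈ D, k ≠ 1 → ∀ v ∈ Z, ∃ u ∈ Z, u⁻¹ * (k * u * k⁻¹) = v := by
    intro k hk hk1 v hv
    let f : Z → Z := fun u => ⟨(u : G)⁻¹ * (k * u * k⁻¹), Z.mul_mem (Z.inv_mem u.2) (hZn k (hDH k hk) u u.2)⟩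
    have hf : Function.Injective f := by
      intro u u' e
      have e1 : (u : G)⁻¹ * (k * u * k⁻¹) = (u' : G)⁻¹ * (k * u' * k⁻¹) := congrArg Subtype.val e
      by_contra hne
      apply hk1
      apply h.D_fpf hFT hb (x := (u : G) * (u' : G)⁻¹) (hDb k hk)
        ((P : Subgroup G).mul_mem ((hZ _).1 u.2).1 ((P : Subgroup G).inv_mem ((hZ _).1 u'.2).1))
      · intro e2
        exact hne (Subtype.ext (mul_inv_eq_one.1 e2))
      · calc k * ((u : G) * (u' : G)⁻¹) = u * ((u : G)⁻¹ * (k * u * k⁻¹)) * k * (u' : G)⁻¹ := by group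
          _ = u * ((u' : G)⁻¹ * (k * u' * k⁻¹)) * k * (u' : G)⁻¹ := by rw [e1]
          _ = (u : G) * (u' : G)⁻¹ * k := by group
    obtain ⟨u, hu⟩ := (Finite.injective_iff_surjective.1 hf) ⟨v, hv⟩
    exact ⟨u, u.2, congrArg Subtype.val hu⟩
  -- `|B| ≥ (|D| + 1) |Z|`
  have hBcard : (Nat.card D + 1) * Nat.card Z ≤ Nat.card B := by
    let f : Option D × Z → B := fun o => match o with
      | (none, v) => ⟨v, hZB v.2⟩
      | (some d, v) => ⟨(d : G) * x * (d : G)⁻¹ * v, B.mul_mem (hBn d (hDH d d.2) x hxB) (hZB v.2)⟩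
    have hnot : ∀ (d : D) (v v' : Z), (d : G) * x * (d : G)⁻¹ * v ≠ v' := by
      intro d v v' e
      apply hxZ
      have h1 : (d : G) * x * (d : G)⁻¹ ∈ Z := by
        have e2 : (d : G) * x * (d : G)⁻¹ = v' * (v : G)⁻¹ := by rw [← e]; group
        rw [e2]
        exact Z.mul_mem v'.2 (Z.inv_mem v.2)
      have h2 := hZn (d : G)⁻¹ (h.H.inv_mem (hDH d d.2)) _ h1
      have e3 : (d : G)⁻¹ * ((d : G) * x * (d : G)⁻¹) * (d : G)⁻¹⁻¹ = x := by group
      rwa [e3] at h2
    have hf : Function.Injective f := by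
      rintro ⟨o, v⟩ ⟨o', v'⟩ e
      rcases o with _ | d <;> rcases o' with _ | d'
      · have e1 : (v : G) = v' := congrArg (fun b : B => (b : G)) e
        rw [Subtype.ext e1]
      · exact absurd (congrArg Subtype.val e).symm (hnot d' v' v)
      · exact absurd (congrArg Subtype.val e) (hnot d v v')
      · have e1 : (d : G) * x * (d : G)⁻¹ * v = (d' : G) * x * (d' : G)⁻¹ * v' := congrArg Subtype.val e
        have h1 : (d' : G)⁻¹ * (d : G) = 1 := by
          by_contra hk1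
          set k : G := (d' : G)⁻¹ * (d : G) with hkdef
          have hkD : k ∈ D := D.mul_mem (D.inv_mem d'.2) d.2
          have hu1 : (d' : G)⁻¹ * ((v' : G) * (v : G)⁻¹) * (d' : G)⁻¹⁻¹ ∈ Z :=
            hZn _ (h.H.inv_mem (hDH d' d'.2)) _ (Z.mul_mem v'.2 (Z.inv_mem v.2))
          obtain ⟨u, hu, hu2⟩ := hsurj k hkD hk1 _ hu1
          have e2 : x⁻¹ * (k * x * k⁻¹) = (d' : G)⁻¹ * ((v' : G) * (v : G)⁻¹) * (d' : G)⁻¹⁻¹ := by
            calc x⁻¹ * (k * x * k⁻¹) = x⁻¹ * (d' : G)⁻¹ * ((d : G) * x * (d : G)⁻¹ * v) * (v : G)⁻¹ * d' := by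
                  rw [hkdef]; group
              _ = x⁻¹ * (d' : G)⁻¹ * ((d' : G) * x * (d' : G)⁻¹ * v') * (v : G)⁻¹ * d' := by rw [e1]
              _ = (d' : G)⁻¹ * ((v' : G) * (v : G)⁻¹) * (d' : G)⁻¹⁻¹ := by group
          have e3 : x⁻¹ * (k * x * k⁻¹) = u⁻¹ * (k * u * k⁻¹) := e2.trans hu2.symm
          have huP : u ∈ (P : Subgroup G) := ((hZ _).1 hu).1
          apply hk1
          apply h.D_fpf hFT hb (x := x * u⁻¹) (hDb k hkD) ((P : Subgroup G).mul_mem hx ((P : Subgroup G).inv_mem huP))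
          · intro e4
            apply hxZ
            rw [mul_inv_eq_one.1 e4]
            exact hu
          · calc k * (x * u⁻¹) = x * (x⁻¹ * (k * x * k⁻¹)) * k * u⁻¹ := by group
              _ = x * (u⁻¹ * (k * u * k⁻¹)) * k * u⁻¹ := by rw [e3]
              _ = x * u⁻¹ * k := by group
        have hdd : d = d' := Subtype.ext (inv_mul_eq_one.1 h1).symm
        subst hdd
        have : (v : G) = v' := mul_left_cancel e1
        rw [Subtype.ext this]
    have := Nat.card_le_card_of_injective f hf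
    rw [Nat.card_prod, Finite.card_option] at this
    exact this
  have hfin : Nat.card (P : Subgroup G) ≤ Nat.card B := by
    rw [hcP]
    refine le_trans ?_ hBcard
    rw [hcD'] at hZcard ⊢
    exact Nat.mul_le_mul_left _ hZcard
  have hBP' : B = (P : Subgroup G) := Subgroup.eq_of_le_of_card_ge hBP hfin
  apply hxy
  have : y ∈ B := by rw [hBP']; exact hy
  exact (hB y).1 this

end Hyp

theorem main (hFT : OddSolv.{u}) {G : Type u} [Group G] [Finite G] (h : TIC G) :
    Group.IsNilpotent G ∨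
    (∃ H : Subgroup G, Cfsg.IsFrobeniusComplement H ∧
      (IsCyclic H ∨ ∃ m : ℕ, Odd m ∧ Nonempty (H ≃* Multiplicative (ZMod m) × QuaternionGroup 2))) ∨
    (∃ n : ℕ, 2 ≤ n ∧ Nonempty (G ≃* Matrix.ProjectiveSpecialLinearGroup (Fin 2) (GaloisField 2 n))) := by
  classical
  by_cases hnil : Group.IsNilpotent G
  · exact Or.inl hnil
  by_cases hA : ∃ A : Subgroup G, A.Normal ∧ A ≠ ⊥ ∧ ∀ x ∈ A, ∀ y ∈ A, x * y = y * x
  · obtain ⟨A, hAn, hA1, hAc⟩ := hA
    exact Or.inr (Or.inl (h.frobenius hnil hAn hA1 hAc))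
  right; right
  push Not at hA
  have noab : ∀ A : Subgroup G, A.Normal → (∀ x ∈ A, ∀ y ∈ A, x * y = y * x) → A = ⊥ := by
    intro A hAn hAc
    by_contra hA1
    obtain ⟨x, hx, y, hy, hxy⟩ := hA A hAn hA1
    exact hxy (hAc x hx y hy)
  have hodd : ∀ N : Subgroup G, N.Normal → ¬ 2 ∣ Nat.card N → N = ⊥ := by
    intro N hN h2
    apply eq_bot_of_solvable noab N hN
    apply hFT
    rw [← Nat.not_even_iff_odd, even_iff_two_dvd]
    exact h2
  haveI := Fact.mk Nat.prime_two
  obtain ⟨P⟩ : Nonempty (Sylow 2 G) := inferInstance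
  have hP : (P : Subgroup G) ≠ ⊥ := by
    intro e
    apply hnil
    have h1 : ¬ 2 ∣ Nat.card (⊤ : Subgroup G) := by
      rw [Subgroup.card_top]
      intro h2
      have h3 := P.dvd_card_of_dvd_card h2
      rw [e, Subgroup.card_bot] at h3
      omega
    have h2 := hodd ⊤ inferInstance h1
    haveI : Subsingleton G := by
      have := Subgroup.subsingleton_iff.1 (subsingleton_of_bot_eq_top h2.symm)
      exact this
    infer_instance
  haveI : Nontrivial (P : Subgroup G) := (nontrivial_iff_ne_bot _).2 hP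
  have h1 := P.isPGroup'.center_nontrivial
  obtain ⟨⟨⟨z, hzP⟩, hzc⟩, hz1⟩ := exists_ne (1 : center (P : Subgroup G))
  have hz1 : z ≠ 1 := fun e => hz1 (Subtype.ext (Subtype.ext e))
  obtain ⟨w, hw1, hzw, hmax⟩ := h.exists_max hz1
  have hyp : Hyp G P w :=
    { tic := h, noab := noab, odd := hodd, w1 := hw1, mx := hmax, ne := hP
      le := by
        intro y hy
        apply hzw
        exact mem_cent.2 (congrArg Subtype.val (mem_center_iff.1 hzc ⟨y, hy⟩)).symm }
  by_cases hab : ∀ x ∈ (P : Subgroup G), ∀ y ∈ (P : Subgroup G), x * y = y * x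
  · exact hyp.abelian_case hFT hab
  · push Not at hab
    exact (hyp.nonabelian_case hFT hab).elim

end Cfsg.Agent.JX
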